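import Mathlib
import Cfsg.Agent.Lib.Block.DihCount
import Cfsg.Agent.Lib.Block.DefZero

/-!
# The order formula for groups with Klein four Sylow 2-subgroups
-/

set_option autoImplicit false

namespace CfsgLib.Block

open Cfsg MonoidAlgebra CfsgLib.Char CfsgLib.DihSyl
open CfsgLib.BrPair (cS Cz Nz Ce)
open scoped ComplexConjugate

variable {G : Type*} [Group G] [Finite G] {M : Ideal AlgInt}

theorem klein_setup {g₀ : ℕ} (hg₀ : Odd g₀) (hG : Nat.card G = 4 * g₀)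
    (hnc : ¬ ∃ N : Subgroup G, N.Normal ∧ Nat.card N = g₀) (P : Sylow 2 G) :
    IsKleinFour (P : Subgroup G) ∧ ∀ s t : G, orderOf s = 2 → orderOf t = 2 → IsConj s t := by
  have hP : Nat.card (P : Subgroup G) = 2 ^ 2 := by
    rw [P.card_eq_multiplicity, hG, Nat.factorization_mul (by norm_num) hg₀.pos.ne',
      Finsupp.add_apply, Nat.factorization_eq_zero_of_not_dvd hg₀.not_two_dvd_nat,
      show 4 = 2 ^ 2 from rfl, Nat.prime_two.factorization_pow, Finsupp.single_eq_same]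
  have key : ∀ N : Subgroup G, N.Normal → ¬ N.IsComplement' (P : Subgroup G) := fun N hN h => by
    have := h.card_mul_card
    rw [hP, hG] at this
    exact hnc ⟨N, hN, by omega⟩
  have hK : IsKleinFour (P : Subgroup G) := ⟨hP, (not_isCyclic_iff_exponent_eq_prime Nat.prime_two
    hP).1 fun hc => key _ inferInstance (hc.isComplement' (p := 2)
      ((Nat.minFac_eq_two_iff _).2 ⟨2 * g₀, by omega⟩))⟩
  exact ⟨hK, ((fourOmega_of_isKleinFour _ hK).complement_or_one_class P).resolve_left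
    fun ⟨N, hN, h⟩ => key N hN h⟩

open Classical in
theorem klein_order (hM : IsPModular 2 M) (P : Sylow 2 G) (hP : IsKleinFour (P : Subgroup G))
    (hone : ∀ s t : G, orderOf s = 2 → orderOf t = 2 → IsConj s t) {J : G}
    (hJ : J ∈ (P : Subgroup G)) (hJ2 : orderOf J = 2) :
    (Nat.card G : ℂ) * (∑ χ ∈ Finset.univ.filter (· ∈ principalBlock M G),
      (χ : G → ℂ) J ^ 3 / (χ : G → ℂ) 1) * (Nat.card (Cz (P : Subgroup G)) : ℂ) ^ 2 =
      8 * (Nat.card (Ce J) : ℂ) ^ 3 := by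
  have hJ1 := Invol.ne_one_of_orderOf_two hJ2
  have hJJ := Invol.mul_self_of_orderOf_two hJ2
  obtain ⟨t, ht, ht1, htJ⟩ : ∃ t ∈ (P : Subgroup G), t ≠ 1 ∧ J ≠ t := by
    obtain ⟨a, b, ha, hb, ha1, hb1, hab⟩ := TwoGrp.exists_gens_of_isKleinFour hP
    by_cases h : J = a
    exacts [⟨b, hb, hb1, h ▸ hab⟩, ⟨a, ha, ha1, h⟩]
  have hz : ∀ i : ℤ, J ^ i = 1 ∨ J ^ i = J := fun i => by
    obtain ⟨j, rfl | rfl⟩ := Int.even_or_odd' i
    · left; rw [zpow_mul, zpow_two, hJJ, one_zpow]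
    · right; rw [zpow_add_one, zpow_mul, zpow_two, hJJ, one_zpow, one_mul]
  have h : IsDih (P : Subgroup G) (2 * 1) J t := by
    refine ⟨hJ2, TwoGrp.mul_self_of_isKleinFour hP ht, ?_, ?_, fun g => ?_⟩
    · rw [TwoGrp.comm_of_isKleinFour hP ht hJ, mul_inv_cancel_right, Invol.inv_of_orderOf_two hJ2]
    · rintro ⟨i, rfl⟩
      rcases hz i with h | h
      exacts [ht1 h, htJ h.symm]
    · refine ⟨fun hg => ?_, ?_⟩
      · rcases (TwoGrp.mem_iff_of_isKleinFour hP hJ ht hJ1 ht1 htJ g).1 hg with h | h | h | h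
        exacts [⟨0, Or.inl (by simpa)⟩, ⟨1, Or.inl (by simpa)⟩, ⟨0, Or.inr (by simpa)⟩,
          ⟨1, Or.inr (by simpa)⟩]
      · rintro ⟨i, rfl | rfl⟩
        exacts [Subgroup.zpow_mem _ hJ i, Subgroup.mul_mem _ (Subgroup.zpow_mem _ hJ i) ht]
  obtain ⟨g, o, ho, hg, hgc, hF⟩ := Dih.local_sum h one_pos hM fun i =>
    hone _ _ (by rwa [pow_one]) (h.orderOf_rpows i)
  have hC : ∀ i : ℤ, Subgroup.centralizer ({J, J ^ i * t} : Set G) = Cz (P : Subgroup G) :=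
    fun i => le_antisymm (fun x hx y hy => by
      have h1 : Commute J x := hx J (by simp)
      have h2 : Commute (J ^ i * t) x := hx _ (by simp)
      have h3 : Commute t x := by simpa using ((h1.zpow_left i).inv_left.mul_left h2)
      obtain ⟨j, rfl | rfl⟩ := (h.mem y).1 hy
      exacts [h1.zpow_left j, (h1.zpow_left j).mul_left h3])
      (Subgroup.centralizer_le (Set.pair_subset hJ (h.rpows_mem i)))
  have F := hF 1 (by simpa using hJ1)
  simp only [pow_one, hC, one_mul, mul_one] at ho hgc F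
  rw [blockPart_pairN, zpow_one, Invol.inv_of_orderOf_two hJ2, sub_self,
    show g (0 - 1) = g 1 by simpa using (hg (-1)).symm] at F
  have c0 := congrArg (Nat.cast (R := ℂ)) (hgc 0)
  have c1 := congrArg (Nat.cast (R := ℂ)) (hgc 1)
  have ho' := congrArg (Nat.cast (R := ℂ)) ho
  have hC0 := card_Ce_ne_zero J
  simp only [pow_three']
  push_cast at F c0 c1 ho'
  have ho0 : (o : ℂ) ≠ 0 := fun h0 => hC0 (by rw [← ho', h0, zero_mul])
  generalize (∑ χ ∈ Finset.univ.filter (· ∈ principalBlock M G),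
    (χ : G → ℂ) J * (χ : G → ℂ) J * (χ : G → ℂ) J / (χ : G → ℂ) 1) = S at F
  field_simp at F
  refine mul_left_cancel₀ ho0 ?_
  linear_combination (Nat.card (Cz (P : Subgroup G)) : ℂ) ^ 2 * F + 2 * (Nat.card (Ce J) : ℂ) ^ 2 *
    (g 1 * Nat.card (Cz (P : Subgroup G)) * c0 + Nat.card (Ce J) * c1) -
    2 * (Nat.card (Ce J) : ℂ) ^ 3 * ho'

open Classical in
theorem klein_sum_fsInd [Fintype G] (hM : IsPModular 2 M) (P : Sylow 2 G)
    (hP : IsKleinFour (P : Subgroup G)) {J : G} (hJ2 : orderOf J = 2) :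
    ∑ χ ∈ Finset.univ.filter (· ∈ principalBlock M G), fsInd (χ : G → ℂ) * (χ : G → ℂ) J = 0 := by
  have := blockPart_eq_zero_of_section hM isPBlock_principalBlock (ϑ := fun g => (sqrtN g : ℂ))
    (isPPart_self Nat.prime_two ⟨1, by rwa [pow_one]⟩) fun g y hy hc => by
      rw [sqrtN, Nat.cast_eq_zero, Nat.card_eq_zero]
      refine Or.inl ⟨fun ⟨x, hx⟩ => ?_⟩
      obtain ⟨u, hu⟩ := exists_isPPart Nat.prime_two x
      have h2 := isPPart_zpow Nat.prime_two hu 2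
      rw [zpow_two, hx, zpow_two] at h2
      obtain ⟨a, ha⟩ := exists_conj_mem_sylow P (isPPart_pElt hu)
      have h3 := TwoGrp.mul_self_of_isKleinFour hP ha
      rw [conj_mul, conj_eq_one_iff, ← isPPart_unique Nat.prime_two hy h2] at h3
      exact Invol.ne_one_of_orderOf_two hJ2 (isConj_one_left.1 (h3 ▸ hc))
  simpa only [blockPart_eq_sum, classInner_sqrtN] using this

open Classical in
theorem sum_four {χ₁ χ₂ χ₃ : IrrCharacter G} {B : Set (IrrCharacter G)}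
    (hB : B =
      {χ : IrrCharacter G | (χ : G → ℂ) = (fun _ => 1) ∨ χ = χ₁ ∨ χ = χ₂ ∨ χ = χ₃})
    (hd : (χ₁ : G → ℂ) ≠ (fun _ => 1) ∧ (χ₂ : G → ℂ) ≠ (fun _ => 1) ∧ (χ₃ : G → ℂ) ≠ (fun _ => 1) ∧
      χ₁ ≠ χ₂ ∧ χ₁ ≠ χ₃ ∧ χ₂ ≠ χ₃) (f : IrrCharacter G → ℂ) :
    ∑ χ ∈ Finset.univ.filter (· ∈ B), f χ = f (irrOne G) + f χ₁ + f χ₂ + f χ₃ := by
  have h1 : ∀ χ : IrrCharacter G, (χ : G → ℂ) = (fun _ => 1) ↔ χ = irrOne G := fun χ =>
    ⟨fun h => Subtype.ext h, fun h => h ▸ rfl⟩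
  simp only [Ne, h1] at hB hd
  rw [show Finset.univ.filter (· ∈ B) = {irrOne G, χ₁, χ₂, χ₃} by ext; simp [hB],
    Finset.sum_insert (by simp [Ne.symm hd.1, Ne.symm hd.2.1, Ne.symm hd.2.2.1]),
    Finset.sum_insert (by simp [hd.2.2.2.1, hd.2.2.2.2.1]), Finset.sum_pair hd.2.2.2.2.2]
  ring

/-- The two numerical relations for the principal block. -/
theorem klein_eqs (hM : IsPModular 2 M) (P : Sylow 2 G) (hP : IsKleinFour (P : Subgroup G))
    (hone : ∀ s t : G, orderOf s = 2 → orderOf t = 2 → IsConj s t) {J : G}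
    (hJ : J ∈ (P : Subgroup G)) (hJ2 : orderOf J = 2) {χ₁ χ₂ χ₃ : IrrCharacter G} {ε₁ ε₂ ε₃ : ℤ}
    (hB : principalBlock M G =
      {χ : IrrCharacter G | (χ : G → ℂ) = (fun _ => 1) ∨ χ = χ₁ ∨ χ = χ₂ ∨ χ = χ₃})
    (hd : (χ₁ : G → ℂ) ≠ (fun _ => 1) ∧ (χ₂ : G → ℂ) ≠ (fun _ => 1) ∧ (χ₃ : G → ℂ) ≠ (fun _ => 1) ∧
      χ₁ ≠ χ₂ ∧ χ₁ ≠ χ₃ ∧ χ₂ ≠ χ₃) (hε : (ε₁ = 1 ∨ ε₁ = -1) ∧ (ε₂ = 1 ∨ ε₂ = -1) ∧
      (ε₃ = 1 ∨ ε₃ = -1)) (hval : (χ₁ : G → ℂ) J = ε₁ ∧ (χ₂ : G → ℂ) J = ε₂ ∧ (χ₃ : G → ℂ) J = ε₃) :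
    1 + ε₁ * charDegree (χ₁ : G → ℂ) + ε₂ * charDegree (χ₂ : G → ℂ) +
      ε₃ * charDegree (χ₃ : G → ℂ) = 0 ∧
    (Nat.card G : ℤ) * ((charDegree (χ₁ : G → ℂ) + ε₁) * (charDegree (χ₂ : G → ℂ) + ε₂) *
      (charDegree (χ₃ : G → ℂ) + ε₃)) * (Nat.card (Cz (P : Subgroup G)) : ℤ) ^ 2 =
      8 * (charDegree (χ₁ : G → ℂ) * charDegree (χ₂ : G → ℂ) * charDegree (χ₃ : G → ℂ)) *
        (Nat.card (Ce J) : ℤ) ^ 3 := by
  classical
  have h1 := block_orth hM isPBlock_principalBlock (isPPart_self Nat.prime_two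
    ⟨1, by rwa [pow_one]⟩) (isPPart_one (y := 1) (by simp)) fun hc =>
      Invol.ne_one_of_orderOf_two hJ2 (isConj_one_left.1 hc)
  have h2 := klein_order hM P hP hone hJ hJ2
  rw [finsum_mem_irr', inv_one] at h1
  rw [sum_four hB hd, hval.1, hval.2.1, hval.2.2] at h1 h2
  have d1 := irr_one_ne_zero χ₁.2
  have d2 := irr_one_ne_zero χ₂.2
  have d3 := irr_one_ne_zero χ₃.2
  simp only [irrOne_apply, mul_one, one_pow, div_one] at h1 h2
  simp only [← charDegree_eq (irr_isCharacter _)] at h1 h2 d1 d2 d3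
  refine ⟨by exact_mod_cast h1, ?_⟩
  apply Int.cast_injective (α := ℂ)
  push_cast
  field_simp at h2
  rcases hε with ⟨rfl | rfl, rfl | rfl, rfl | rfl⟩ <;> push_cast at h1 h2 ⊢ <;>
    first
    | linear_combination h2 + (Nat.card G * (Nat.card (Cz (P : Subgroup G)) : ℂ) ^ 2) * h1
    | linear_combination h2 - (Nat.card G * (Nat.card (Cz (P : Subgroup G)) : ℂ) ^ 2) * h1

end CfsgLib.Block
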